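import Mathlib
import Cfsg.Agent.Lib.H07.FStar
import Cfsg.Agent.Lib.H13.Basic
import Cfsg.Prelude.Def_Local

namespace Cfsg.Agent.H05.AltStd
open Equiv Equiv.Perm

/-- Pointwise stabilizer of `{0,1,2,3}` in `A_n`. -/
def LL (n : ℕ) : Subgroup ↥(alternatingGroup (Fin n)) where
  carrier := {g | ∀ x : Fin n, x.val < 4 → (g : Perm (Fin n)) x = x}
  mul_mem' := by
    intro a b ha hb x hx
    simp only [Subgroup.coe_mul, Perm.coe_mul, Function.comp]
    rw [hb x hx, ha x hx]
  one_mem' := by intro x _; rfl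
  inv_mem' := by
    intro a ha x hx
    rw [Subgroup.coe_inv, Perm.inv_eq_iff_eq]; exact (ha x hx).symm

/-- Pointwise stabilizer of the complement of `{0,1,2,3}` in `A_n`. -/
def KK (n : ℕ) : Subgroup ↥(alternatingGroup (Fin n)) where
  carrier := {g | ∀ x : Fin n, 4 ≤ x.val → (g : Perm (Fin n)) x = x}
  mul_mem' := by
    intro a b ha hb x hx
    simp only [Subgroup.coe_mul, Perm.coe_mul, Function.comp]
    rw [hb x hx, ha x hx]
  one_mem' := by intro x _; rfl
  inv_mem' := by
    intro a ha x hx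
    rw [Subgroup.coe_inv, Perm.inv_eq_iff_eq]; exact (ha x hx).symm

variable {n : ℕ}

theorem mem_LL {g : ↥(alternatingGroup (Fin n))} :
    g ∈ LL n ↔ ∀ x : Fin n, x.val < 4 → (g : Perm (Fin n)) x = x := Iff.rfl

theorem mem_KK {g : ↥(alternatingGroup (Fin n))} :
    g ∈ KK n ↔ ∀ x : Fin n, 4 ≤ x.val → (g : Perm (Fin n)) x = x := Iff.rfl

theorem exists3 (a b c : Fin n) (hab : a ≠ b) (hac : a ≠ c) (hbc : b ≠ c) :
    ∃ g : ↥(alternatingGroup (Fin n)), (g : Perm (Fin n)) a = b ∧ (g : Perm (Fin n)) b = c ∧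
      (g : Perm (Fin n)) c = a ∧ ∀ x, x ≠ a → x ≠ b → x ≠ c → (g : Perm (Fin n)) x = x := by
  refine ⟨⟨swap a c * swap a b, ?_⟩, ?_, ?_, ?_, ?_⟩
  · rw [Equiv.Perm.mem_alternatingGroup, map_mul, sign_swap hac, sign_swap hab]; simp
  · simp only [Perm.coe_mul, Function.comp]
    rw [swap_apply_left, swap_apply_of_ne_of_ne hab.symm hbc]
  · simp only [Perm.coe_mul, Function.comp]
    rw [swap_apply_right, swap_apply_left]
  · simp only [Perm.coe_mul, Function.comp]
    rw [swap_apply_of_ne_of_ne hac.symm hbc.symm, swap_apply_right]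
  · intro x hxa hxb hxc
    simp only [Perm.coe_mul, Function.comp]
    rw [swap_apply_of_ne_of_ne hxa hxb, swap_apply_of_ne_of_ne hxa hxc]

theorem avoid (s : Finset (Fin n)) (hs : s.card + 4 < n) : ∃ a : Fin n, 4 ≤ a.val ∧ a ∉ s := by
  classical
  have hn : 4 ≤ n := by omega
  let f : Fin (n - 4) → Fin n := fun i => ⟨i.val + 4, by omega⟩
  have hf : Function.Injective f := by
    intro i j h
    have := congrArg Fin.val h
    simp only [f] at this
    exact Fin.ext (by omega)
  have hcard : s.card < (Finset.univ.image f).card := by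
    rw [Finset.card_image_of_injective _ hf, Finset.card_univ, Fintype.card_fin]; omega
  obtain ⟨e, he, hes⟩ := Finset.exists_mem_notMem_of_card_lt_card hcard
  obtain ⟨i, -, rfl⟩ := Finset.mem_image.mp he
  exact ⟨f i, by simp [f], hes⟩

theorem avoid1 (hn : 9 ≤ n) (x : Fin n) : ∃ a b : Fin n, 4 ≤ a.val ∧ 4 ≤ b.val ∧ a ≠ b ∧ a ≠ x ∧ b ≠ x := by
  classical
  obtain ⟨a, ha, has⟩ := avoid ({x} : Finset (Fin n)) (by simp; omega)
  obtain ⟨b, hb, hbs⟩ := avoid ({x, a} : Finset (Fin n)) (by
    have := Finset.card_le_two (a := x) (b := a); omega)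
  simp only [Finset.mem_singleton, Finset.mem_insert, not_or] at has hbs
  exact ⟨a, b, ha, hb, fun h => hbs.2 h.symm, has, hbs.1⟩

theorem avoid2 (hn : 9 ≤ n) (x y : Fin n) :
    ∃ a b : Fin n, 4 ≤ a.val ∧ 4 ≤ b.val ∧ a ≠ b ∧ a ≠ x ∧ b ≠ x ∧ a ≠ y ∧ b ≠ y := by
  classical
  obtain ⟨a, ha, has⟩ := avoid ({x, y} : Finset (Fin n)) (by
    have := Finset.card_le_two (a := x) (b := y); omega)
  obtain ⟨b, hb, hbs⟩ := avoid ({x, y, a} : Finset (Fin n)) (by
    have := Finset.card_le_three (a := x) (b := y) (c := a); omega)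
  simp only [Finset.mem_singleton, Finset.mem_insert, not_or] at has hbs
  exact ⟨a, b, ha, hb, fun h => hbs.2.2 h.symm, has.1, hbs.1, has.2, hbs.2.1⟩

/-- an element of `L` from a 3-cycle. -/
theorem exists3L (a b c : Fin n) (ha : 4 ≤ a.val) (hb : 4 ≤ b.val) (hc : 4 ≤ c.val)
    (hab : a ≠ b) (hac : a ≠ c) (hbc : b ≠ c) :
    ∃ g ∈ LL n, (g : Perm (Fin n)) a = b ∧ (g : Perm (Fin n)) b = c ∧
      (g : Perm (Fin n)) c = a ∧ ∀ x, x ≠ a → x ≠ b → x ≠ c → (g : Perm (Fin n)) x = x := by
  obtain ⟨g, h1, h2, h3, h4⟩ := exists3 a b c hab hac hbc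
  refine ⟨g, ?_, h1, h2, h3, h4⟩
  intro x hx
  apply h4
  · rintro rfl; omega
  · rintro rfl; omega
  · rintro rfl; omega

theorem map_mem_of_K {g : ↥(alternatingGroup (Fin n))} (hg : g ∈ KK n) {x : Fin n} (hx : x.val < 4) :
    ((g : Perm (Fin n)) x).val < 4 := by
  by_contra h
  have h' : 4 ≤ ((g : Perm (Fin n)) x).val := by omega
  have := hg _ h'
  have h2 := (g : Perm (Fin n)).injective this
  rw [h2] at h'
  omega

theorem map_mem_of_L {g : ↥(alternatingGroup (Fin n))} (hg : g ∈ LL n) {x : Fin n} (hx : 4 ≤ x.val) :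
    4 ≤ ((g : Perm (Fin n)) x).val := by
  by_contra h
  have h' : ((g : Perm (Fin n)) x).val < 4 := by omega
  have := hg _ h'
  have h2 := (g : Perm (Fin n)).injective this
  rw [h2] at h'
  omega

theorem centralizer_LL (hn : 9 ≤ n) :
    Subgroup.centralizer (LL n : Set ↥(alternatingGroup (Fin n))) = KK n := by
  ext g
  rw [Subgroup.mem_centralizer_iff]
  constructor
  · intro hg x hx
    by_contra hne
    set y := (g : Perm (Fin n)) x with hy
    have comm : ∀ h ∈ LL n, ∀ z, (h : Perm (Fin n)) ((g : Perm (Fin n)) z) = (g : Perm (Fin n)) ((h : Perm (Fin n)) z) := by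
      intro h hh z
      have := congrArg (fun f : ↥(alternatingGroup (Fin n)) => (f : Perm (Fin n)) z) (hg h hh)
      simpa using this
    by_cases hy4 : y.val < 4
    · obtain ⟨a, b, ha, hb, hab, hax, hbx⟩ := avoid1 hn x
      obtain ⟨h, hh, h1, h2, h3, h4⟩ := exists3L x a b hx ha hb hax.symm hbx.symm hab
      have := comm h hh x
      rw [← hy, hh y hy4, h1] at this
      exact hax ((g : Perm (Fin n)).injective this).symm
    · obtain ⟨a, b, ha, hb, hab, hax, hbx, hay, hby⟩ := avoid2 hn x y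
      obtain ⟨h, hh, h1, h2, h3, h4⟩ := exists3L y a b (by omega) ha hb hay.symm hby.symm hab
      have := comm h hh x
      rw [← hy, h1, h4 x (Ne.symm hne) hax.symm hbx.symm, ← hy] at this
      exact hay this
  · intro hg h hh
    ext x
    simp only [Subgroup.coe_mul, Perm.coe_mul, Function.comp]
    by_cases hx : x.val < 4
    · rw [hh _ (map_mem_of_K hg hx), hh x hx]
    · have hx' : 4 ≤ x.val := by omega
      rw [hg x hx', hg _ (map_mem_of_L hh hx')]

/-- An involution in `K` moves every point of `{0,1,2,3}`. -/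
theorem invol_moves {g : ↥(alternatingGroup (Fin n))} (hg : g ∈ KK n) (h1 : g ≠ 1) (h2 : g * g = 1)
    {a : Fin n} (ha : a.val < 4) : (g : Perm (Fin n)) a ≠ a := by
  classical
  intro hfix
  have hgg : ∀ x, (g : Perm (Fin n)) ((g : Perm (Fin n)) x) = x := by
    intro x
    have := congrArg (fun f : ↥(alternatingGroup (Fin n)) => (f : Perm (Fin n)) x) h2
    simpa using this
  obtain ⟨b, hb⟩ : ∃ b, (g : Perm (Fin n)) b ≠ b := by
    by_contra hall
    push Not at hall
    apply h1
    ext x
    simpa using congrArg Fin.val (hall x)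
  have hb4 : b.val < 4 := by
    by_contra h
    exact hb (hg b (by omega))
  set c := (g : Perm (Fin n)) b with hc
  have hc4 : c.val < 4 := map_mem_of_K hg hb4
  have hba : b ≠ a := by
    rintro rfl; exact hb hfix
  have hca : c ≠ a := by
    intro h
    rw [h, ← hfix] at hc
    exact hba ((g : Perm (Fin n)).injective hc).symm
  have hcb : c ≠ b := hb
  have hg_eq : (g : Perm (Fin n)) = swap b c := by
    ext x
    by_cases hxb : x = b
    · subst hxb; simp [hc]
    by_cases hxc : x = c
    · rw [hxc, hc, hgg]; simp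
    rw [swap_apply_of_ne_of_ne hxb hxc]
    by_cases hx : x.val < 4
    · by_cases hxa : x = a
      · rw [hxa, hfix]
      · have hgx : ((g : Perm (Fin n)) x).val < 4 := map_mem_of_K hg hx
        have h1' : (g : Perm (Fin n)) x ≠ a := by
          intro h; rw [← hfix] at h
          exact hxa ((g : Perm (Fin n)).injective h)
        have h2' : (g : Perm (Fin n)) x ≠ c := by
          intro h; exact hxb ((g : Perm (Fin n)).injective h)
        have h3' : (g : Perm (Fin n)) x ≠ b := by
          intro h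
          apply hxc
          have := hgg x
          rw [h] at this
          exact this.symm
        simp only [ne_eq, Fin.ext_iff] at hba hca hcb hxb hxc hxa h1' h2' h3'
        omega
    · exact congrArg Fin.val (hg x (by omega))
  have hs := g.2
  rw [Equiv.Perm.mem_alternatingGroup, hg_eq, sign_swap (Ne.symm hcb)] at hs
  exact absurd hs (by decide)

/-- A fixed involution of `K`. -/
theorem exists_invol (hn : 9 ≤ n) : ∃ t ∈ KK n, t ≠ 1 ∧ t * t = 1 := by
  classical
  have hn' : 4 ≤ n := by omega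
  let a : Fin n := ⟨0, by omega⟩
  let b : Fin n := ⟨1, by omega⟩
  let c : Fin n := ⟨2, by omega⟩
  let d : Fin n := ⟨3, by omega⟩
  have hab : a ≠ b := by simp [a, b, Fin.ext_iff]
  have hcd : c ≠ d := by simp [c, d, Fin.ext_iff]
  have hac : a ≠ c := by simp [a, c, Fin.ext_iff]
  have had : a ≠ d := by simp [a, d, Fin.ext_iff]
  have hbc : b ≠ c := by simp [b, c, Fin.ext_iff]
  have hbd : b ≠ d := by simp [b, d, Fin.ext_iff]
  refine ⟨⟨swap a b * swap c d, ?_⟩, ?_, ?_, ?_⟩
  · rw [Equiv.Perm.mem_alternatingGroup, map_mul, sign_swap hab, sign_swap hcd]; simp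
  · intro x hx
    have hxa : x ≠ a := by rintro rfl; simp [a] at hx
    have hxb : x ≠ b := by rintro rfl; simp [b] at hx
    have hxc : x ≠ c := by rintro rfl; simp [c] at hx
    have hxd : x ≠ d := by rintro rfl; simp [d] at hx
    simp only [Perm.coe_mul, Function.comp]
    rw [swap_apply_of_ne_of_ne hxc hxd, swap_apply_of_ne_of_ne hxa hxb]
  · intro h
    have := congrArg (fun f : ↥(alternatingGroup (Fin n)) => (f : Perm (Fin n)) a) h
    simp only [Perm.coe_mul, Function.comp, Subgroup.coe_one, Perm.coe_one, id] at this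
    rw [swap_apply_of_ne_of_ne hac had, swap_apply_left] at this
    exact hab this.symm
  · apply Subtype.ext
    have hcomm : swap a b * swap c d = swap c d * swap a b :=
      (Equiv.Perm.Disjoint.commute (Equiv.Perm.disjoint_swap_swap (by simp [hab, hac, had, hbc, hbd, hcd]))).eq
    show swap a b * swap c d * (swap a b * swap c d) = 1
    calc swap a b * swap c d * (swap a b * swap c d) = swap a b * (swap c d * swap a b) * swap c d := by group
      _ = swap a b * (swap a b * swap c d) * swap c d := by rw [hcomm]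
      _ = (swap a b * swap a b) * (swap c d * swap c d) := by group
      _ = 1 := by rw [swap_mul_self, swap_mul_self, one_mul]

/-- Stabilizing `{0,1,2,3}` implies normalizing `K`. -/
theorem mem_normalizer_KK (g : ↥(alternatingGroup (Fin n)))
    (hg : ∀ x : Fin n, x.val < 4 → ((g : Perm (Fin n)) x).val < 4) :
    g ∈ Subgroup.normalizer (KK n : Set ↥(alternatingGroup (Fin n))) := by
  apply Cfsg.Agent.H13.mem_normalizer_of_map_conj_eq
  apply Subgroup.eq_of_le_of_card_ge
  · rintro _ ⟨k, hk, rfl⟩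
    intro x hx
    have h4 : 4 ≤ (((g⁻¹ : ↥(alternatingGroup (Fin n))) : Perm (Fin n)) x).val := by
      by_contra h
      have h' := hg (((g⁻¹ : ↥(alternatingGroup (Fin n))) : Perm (Fin n)) x) (by omega)
      have h'' : (g : Perm (Fin n)) (((g⁻¹ : ↥(alternatingGroup (Fin n))) : Perm (Fin n)) x) = x := by simp
      rw [h''] at h'
      omega
    have h5 := hk _ h4
    show ((g * k * g⁻¹ : ↥(alternatingGroup (Fin n))) : Perm (Fin n)) x = x
    simp only [Subgroup.coe_mul, Perm.coe_mul, Function.comp]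
    rw [h5]
    simp
  · rw [Cfsg.Agent.H13.card_map_conj]

theorem stab_of_normalizer_KK (hn : 9 ≤ n) {g : ↥(alternatingGroup (Fin n))}
    (hg : g ∈ Subgroup.normalizer (KK n : Set ↥(alternatingGroup (Fin n))))
    (x : Fin n) (hx : x.val < 4) : ((g : Perm (Fin n)) x).val < 4 := by
  obtain ⟨t, ht, ht1, ht2⟩ := exists_invol hn
  have h := (Subgroup.mem_normalizer_iff.mp hg t).mp ht
  by_contra h4
  have hfix := h _ (by omega : 4 ≤ ((g : Perm (Fin n)) x).val)
  have h'' : ((g⁻¹ : ↥(alternatingGroup (Fin n))) : Perm (Fin n)) ((g : Perm (Fin n)) x) = x := by simp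
  simp only [Subgroup.coe_mul, Perm.coe_mul, Function.comp] at hfix
  rw [h''] at hfix
  exact invol_moves ht ht1 ht2 hx ((g : Perm (Fin n)).injective hfix)

theorem normalizer_KK_le (hn : 9 ≤ n) :
    Subgroup.normalizer (KK n : Set ↥(alternatingGroup (Fin n))) ≤
      Subgroup.normalizer (LL n : Set ↥(alternatingGroup (Fin n))) := by
  intro g hg
  apply Cfsg.Agent.H13.mem_normalizer_of_map_conj_eq
  apply Subgroup.eq_of_le_of_card_ge
  · rintro _ ⟨k, hk, rfl⟩
    intro x hx
    have h4 := stab_of_normalizer_KK hn (inv_mem hg) x hx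
    have h5 := hk _ h4
    show ((g * k * g⁻¹ : ↥(alternatingGroup (Fin n))) : Perm (Fin n)) x = x
    simp only [Subgroup.coe_mul, Perm.coe_mul, Function.comp]
    rw [h5]
    simp
  · rw [Cfsg.Agent.H13.card_map_conj]

theorem le_normalizer_KK (hn : 9 ≤ n) :
    Subgroup.normalizer (LL n : Set ↥(alternatingGroup (Fin n))) ≤
      Subgroup.normalizer (KK n : Set ↥(alternatingGroup (Fin n))) := by
  intro g hg
  rw [← centralizer_LL hn]
  apply Cfsg.Agent.H13.mem_normalizer_of_map_conj_eq
  rw [Cfsg.Agent.H13.map_conj_centralizer, Cfsg.Agent.H13.map_conj_eq_of_mem_normalizer hg]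

/-- Tightness. -/
theorem tight (hn : 9 ≤ n) : Cfsg.IsTightlyEmbedded (KK n) := by
  classical
  obtain ⟨t, ht, ht1, ht2⟩ := exists_invol hn
  refine ⟨?_, ?_⟩
  · have h2 : orderOf (⟨t, ht⟩ : KK n) = 2 := by
      apply orderOf_eq_prime
      · apply Subtype.ext
        show t ^ 2 = 1
        rw [pow_two, ht2]
      · intro h; exact ht1 (congrArg Subtype.val h)
    have := orderOf_dvd_natCard (⟨t, ht⟩ : KK n)
    rw [h2] at this
    exact even_iff_two_dvd.mpr this
  · intro g hg
    by_contra hodd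
    rw [Nat.not_odd_iff_even] at hodd
    have : Fact (Nat.Prime 2) := ⟨Nat.prime_two⟩
    obtain ⟨τ, hτ⟩ := exists_prime_orderOf_dvd_card' (G := ↥(KK n ⊓ (KK n).map (MulAut.conj g).toMonoidHom)) 2 hodd.two_dvd
    have hτ1 : (τ : ↥(alternatingGroup (Fin n))) ≠ 1 := by
      intro h
      have : τ = 1 := Subtype.ext h
      rw [this, orderOf_one] at hτ
      omega
    have hτ2 : (τ : ↥(alternatingGroup (Fin n))) * τ = 1 := by
      have := pow_orderOf_eq_one τ
      rw [hτ, pow_two] at this
      exact congrArg Subtype.val this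
    have hτK : (τ : ↥(alternatingGroup (Fin n))) ∈ KK n := τ.2.1
    obtain ⟨k, hk, hke⟩ := τ.2.2
    have hk1 : k ≠ 1 := by
      rintro rfl
      apply hτ1
      rw [← hke]
      simp
    have hk2 : k * k = 1 := by
      have h3 : (MulAut.conj g).toMonoidHom (k * k) = 1 := by
        rw [map_mul, hke]; exact hτ2
      simpa using h3
    apply hg
    apply mem_normalizer_KK
    intro x hx
    by_contra h4
    have hfix := hτK _ (by omega : 4 ≤ ((g : Perm (Fin n)) x).val)
    rw [← hke] at hfix
    have h'' : ((g⁻¹ : ↥(alternatingGroup (Fin n))) : Perm (Fin n)) ((g : Perm (Fin n)) x) = x := by simp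
    simp only [MulEquiv.coe_toMonoidHom, MulAut.conj_apply, Subgroup.coe_mul, Perm.coe_mul,
      Function.comp] at hfix
    rw [h''] at hfix
    exact invol_moves hk hk1 hk2 hx ((g : Perm (Fin n)).injective hfix)

theorem comm_ne (hn : 9 ≤ n) (g : ↥(alternatingGroup (Fin n))) :
    ⁅LL n, (LL n).map (MulAut.conj g).toMonoidHom⁆ ≠ ⊥ := by
  classical
  intro h
  have h1 : (LL n).map (MulAut.conj g).toMonoidHom ≤ KK n := by
    rw [← centralizer_LL hn]
    rw [Subgroup.commutator_comm, Subgroup.commutator_eq_bot_iff_le_centralizer] at h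
    exact h
  let a : Fin 4 → Fin n := fun i => ⟨i.val, by omega⟩
  obtain ⟨x, hx, hxs⟩ := avoid (Finset.univ.image (fun i => (g : Perm (Fin n)) (a i))) (by
    have := Finset.card_image_le (s := (Finset.univ : Finset (Fin 4))) (f := fun i => (g : Perm (Fin n)) (a i))
    simp only [Finset.card_univ, Fintype.card_fin] at this
    omega)
  have hy : 4 ≤ (((g⁻¹ : ↥(alternatingGroup (Fin n))) : Perm (Fin n)) x).val := by
    by_contra hlt
    apply hxs
    rw [Finset.mem_image]
    refine ⟨⟨(((g⁻¹ : ↥(alternatingGroup (Fin n))) : Perm (Fin n)) x).val, by omega⟩, Finset.mem_univ _, ?_⟩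
    simp [a]
  set y := ((g⁻¹ : ↥(alternatingGroup (Fin n))) : Perm (Fin n)) x with hydef
  obtain ⟨p, q, hp, hq, hpq, hpy, hqy⟩ := avoid1 hn y
  obtain ⟨l, hl, h1', -, -, -⟩ := exists3L y p q hy hp hq hpy.symm hqy.symm hpq
  have hmem : (MulAut.conj g).toMonoidHom l ∈ KK n := h1 ⟨l, hl, rfl⟩
  have hfix := hmem x hx
  simp only [MulEquiv.coe_toMonoidHom, MulAut.conj_apply, Subgroup.coe_mul, Perm.coe_mul,
      Function.comp] at hfix
  rw [← hydef, h1'] at hfix
  have hgy : (g : Perm (Fin n)) y = x := by simp [hydef]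
  rw [← hgy] at hfix
  exact hpy ((g : Perm (Fin n)).injective hfix)

/-- Non-abelian simple implies quasisimple. -/
theorem qs_of_simple {G : Type*} [Group G] (hs : IsSimpleGroup G) (hna : ∃ a b : G, a * b ≠ b * a) :
    Cfsg.IsQuasisimple G := by
  obtain ⟨a, b, hab⟩ := hna
  refine ⟨?_, ?_⟩
  · rw [Group.isPerfect_def]
    rcases hs.eq_bot_or_eq_top_of_normal (commutator G) inferInstance with h | h
    · exfalso
      apply hab
      have : a * b * a⁻¹ * b⁻¹ ∈ commutator G := by
        rw [commutator_def]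
        exact Subgroup.commutator_mem_commutator (Subgroup.mem_top a) (Subgroup.mem_top b)
      rw [h, Subgroup.mem_bot] at this
      have h2 : a * b * a⁻¹ * b⁻¹ * (b * a) = b * a := by rw [this, one_mul]
      simpa [mul_assoc] using h2
    · exact h
  · rcases hs.eq_bot_or_eq_top_of_normal (Subgroup.center G) inferInstance with h | h
    · exact ((QuotientGroup.quotientMulEquivOfEq h).trans (QuotientGroup.quotientBot (G := G))).isSimpleGroup
    · exfalso
      apply hab
      have : a ∈ Subgroup.center G := by rw [h]; trivial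
      exact ((Subgroup.mem_center_iff.mp this b)).symm

/-- The complement as a subtype. -/
abbrev Dl (n : ℕ) := {x : Fin n // 4 ≤ x.val}

/-- The embedding of `A_Δ`. -/
def emb (n : ℕ) : ↥(alternatingGroup (Dl n)) →* ↥(alternatingGroup (Fin n)) where
  toFun s := ⟨Equiv.Perm.ofSubtype (s : Perm (Dl n)), by
    rw [Equiv.Perm.mem_alternatingGroup, Equiv.Perm.sign_ofSubtype]
    exact Equiv.Perm.mem_alternatingGroup.mp s.2⟩
  map_one' := by
    apply Subtype.ext
    simp
  map_mul' := by
    intro a b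
    apply Subtype.ext
    simp

theorem emb_inj (n : ℕ) : Function.Injective (emb n) := by
  intro a b h
  have h1 : Equiv.Perm.ofSubtype (a : Perm (Dl n)) = Equiv.Perm.ofSubtype (b : Perm (Dl n)) :=
    congrArg Subtype.val h
  exact Subtype.ext (Equiv.Perm.ofSubtype_injective h1)

theorem emb_range (n : ℕ) : (emb n).range = LL n := by
  classical
  ext g
  constructor
  · rintro ⟨s, rfl⟩ x hx
    show Equiv.Perm.ofSubtype (s : Perm (Dl n)) x = x
    apply Equiv.Perm.ofSubtype_apply_of_not_mem
    simp only [not_le]; omega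
  · intro hg
    have hmaps : ∀ x, 4 ≤ ((g : Perm (Fin n)) x).val ↔ 4 ≤ x.val := by
      intro x
      constructor
      · intro h
        by_contra hlt
        have := hg x (by omega)
        rw [this] at h
        omega
      · exact map_mem_of_L hg
    let s : Perm (Dl n) := (g : Perm (Fin n)).subtypePerm hmaps
    have hof : Equiv.Perm.ofSubtype s = (g : Perm (Fin n)) := by
      apply Equiv.Perm.ofSubtype_subtypePerm
      intro x hx
      by_contra hlt
      exact hx (hg x (by omega))
    have hs : s ∈ alternatingGroup (Dl n) := by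
      rw [Equiv.Perm.mem_alternatingGroup, ← Equiv.Perm.sign_ofSubtype, hof]
      exact Equiv.Perm.mem_alternatingGroup.mp g.2
    exact ⟨⟨s, hs⟩, Subtype.ext hof⟩

theorem qs_LL (hn : 9 ≤ n) : Cfsg.IsQuasisimple (LL n) := by
  classical
  have hcard : 5 ≤ Nat.card (Dl n) := by
    let f : Fin 5 → Dl n := fun i => ⟨⟨i.val + 4, by omega⟩, by simp⟩
    have hf : Function.Injective f := by
      intro i j h
      have := congrArg (fun z : Dl n => z.1.val) h
      simp only [f] at this
      exact Fin.ext (by omega)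
    have := Nat.card_le_card_of_injective f hf
    simpa using this
  have hs : IsSimpleGroup (alternatingGroup (Dl n)) := alternatingGroup.isSimpleGroup hcard
  let e : ↥(alternatingGroup (Dl n)) ≃* LL n :=
    (MonoidHom.ofInjective (emb_inj n)).trans (MulEquiv.subgroupCongr (emb_range n))
  have hs' : IsSimpleGroup (LL n) := e.symm.isSimpleGroup
  apply qs_of_simple hs'
  let p (i : ℕ) (hi : i < 4) : Fin n := ⟨i + 4, by omega⟩
  obtain ⟨g1, hg1, h11, h12, h13, h14⟩ := exists3L (p 0 (by omega)) (p 1 (by omega)) (p 2 (by omega))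
    (by simp [p]) (by simp [p]) (by simp [p]) (by simp [p, Fin.ext_iff]) (by simp [p, Fin.ext_iff]) (by simp [p, Fin.ext_iff])
  obtain ⟨g2, hg2, h21, h22, h23, h24⟩ := exists3L (p 0 (by omega)) (p 1 (by omega)) (p 3 (by omega))
    (by simp [p]) (by simp [p]) (by simp [p]) (by simp [p, Fin.ext_iff]) (by simp [p, Fin.ext_iff]) (by simp [p, Fin.ext_iff])
  refine ⟨⟨g1, hg1⟩, ⟨g2, hg2⟩, ?_⟩
  intro h
  have h0 := congrArg (fun f : LL n => ((f : ↥(alternatingGroup (Fin n))) : Perm (Fin n)) (p 0 (by omega))) h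
  simp only [Subgroup.coe_mul, Perm.coe_mul, Function.comp] at h0
  rw [h21, h11, h12, h22] at h0
  simp [p, Fin.ext_iff] at h0

theorem LL_eq (h4 : 4 ≤ n) :
    (⨅ i : Fin 4, MulAction.stabilizer ↥(alternatingGroup (Fin n)) (Fin.castLE h4 i : Fin n)) = LL n := by
  ext g
  rw [Subgroup.mem_iInf]
  constructor
  · intro h x hx
    have := MulAction.mem_stabilizer_iff.mp (h ⟨x.val, hx⟩)
    have h2 : Fin.castLE h4 ⟨x.val, hx⟩ = x := Fin.ext rfl
    rw [h2] at this
    exact this
  · intro h i
    rw [MulAction.mem_stabilizer_iff]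
    exact h _ (by simp)

theorem main (h4 : 4 ≤ n) (hn : 9 ≤ n) :
    Cfsg.IsStandardSubgroup (⨅ i : Fin 4, MulAction.stabilizer ↥(alternatingGroup (Fin n)) (Fin.castLE h4 i : Fin n)) := by
  rw [LL_eq h4]
  refine ⟨qs_LL hn, ?_, ?_, ?_⟩
  · rw [centralizer_LL hn]; exact tight hn
  · intro g _; exact comm_ne hn g
  · rw [centralizer_LL hn]
    exact le_antisymm (le_normalizer_KK hn) (normalizer_KK_le hn)

end Cfsg.Agent.H05.AltStd
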