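import Cfsg.Agent.Lib.H05.FusRelS
import Cfsg.Agent.Lib.H05.QF2
import Cfsg.Agent.Lib.H05.QF4
import Cfsg.Agent.Lib.H05.Transfer
import Cfsg.Agent.Lib.H24.AutDihedral
import Cfsg.Agent.Lib.H13.Q8Act
import Cfsg.Agent.Lib.H13.Basic
import Cfsg.Agent.Lib.H19.CyclicSylow

/-!
# Dihedral Sylow 2-subgroups: subgroups and fusion
-/

set_option autoImplicit false
set_option linter.style.haveILetI false
set_option linter.unusedSectionVars false
set_option linter.unusedVariables false
set_option linter.unusedSimpArgs false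

namespace Cfsg.Agent.H05

open Subgroup Cfsg DihedralGroup
open Cfsg.Agent.H13
open Cfsg.Agent.H24

/-- The abstract shape of the dihedral and generalized quaternion groups. -/
theorem aut_odd_trivial₂ {X : Type*} [Group X] (r s : X) {e : ℕ} (he : 2 ≤ e) (hr : orderOf r = 2 ^ e)
    (hs : ∀ i : ℕ, (s * r ^ i) ^ 2 = 1) (hsr : ∀ i : ℕ, s ≠ r ^ i)
    (hX : ∀ x : X, (∃ i : ℕ, x = r ^ i) ∨ (∃ i : ℕ, x = s * r ^ i))
    (α : MulAut X) (hα : Odd (orderOf α)) : α = 1 := by
  have hq1 : α ^ orderOf α = 1 := pow_orderOf_eq_one α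
  set q := orderOf α with hq
  have hord : orderOf (α r) = 2 ^ e := by
    rw [← hr]
    exact MulEquiv.orderOf_eq α r
  -- the image of `r` is a power of `r`
  obtain ⟨a, ha⟩ : ∃ a : ℕ, α r = r ^ a := by
    rcases hX (α r) with h | ⟨i, h⟩
    · exact h
    · exfalso
      have h1 : (α r) ^ 2 = 1 := by rw [h]; exact hs i
      have h2 : orderOf (α r) ∣ 2 := orderOf_dvd_of_pow_eq_one h1
      rw [hord] at h2
      have h3 : 2 ^ 2 ∣ 2 ^ e := pow_dvd_pow 2 he
      have h4 := Nat.le_of_dvd (by norm_num) (h3.trans h2)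
      norm_num at h4
  have hodd : Nat.Coprime a (2 ^ e) := by
    apply Nat.Coprime.pow_right
    rw [Nat.coprime_two_right] 
    by_contra hae
    rw [Nat.not_odd_iff_even] at hae
    obtain ⟨c, hc⟩ := hae
    have he1 : e = (e - 1) + 1 := by omega
    have h1 : (α r) ^ 2 ^ (e - 1) = 1 := by
      rw [ha, ← pow_mul, hc]
      have : (c + c) * 2 ^ (e - 1) = c * 2 ^ e := by
        rw [he1]
        simp only [Nat.add_sub_cancel]
        ring
      rw [this, mul_comm, pow_mul, ← hr, pow_orderOf_eq_one, one_pow]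
    have h2 : orderOf (α r) ∣ 2 ^ (e - 1) := orderOf_dvd_of_pow_eq_one h1
    rw [hord] at h2
    have h3 := (Nat.pow_dvd_pow_iff_le_right (x := 2) (by norm_num)).1 h2
    omega
  have hpow : ∀ n : ℕ, (α ^ n) r = r ^ a ^ n := by
    intro n
    induction n with
    | zero => simp
    | succ n ih =>
      rw [pow_succ', MulAut.mul_apply, ih, map_pow, ha, ← pow_mul, pow_succ']
  have hr1 : r ^ 1 = r ^ a ^ q := by
    rw [pow_one, ← hpow, hq1]
    rfl
  have hmod : a ^ q ≡ 1 [MOD 2 ^ e] := by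
    have := (pow_eq_pow_iff_modEq (x := r) (n := 1) (m := a ^ q)).1 hr1
    rw [hr] at this
    exact this.symm
  have hfix : α r = r := by
    rw [ha]
    -- in the unit group of `ZMod (2^e)`
    have : NeZero (2 ^ e) := ⟨by positivity⟩
    let u : (ZMod (2 ^ e))ˣ := ZMod.unitOfCoprime a hodd
    have hu1 : u ^ q = 1 := by
      ext
      push_cast
      simp only [u, ZMod.coe_unitOfCoprime]
      rw [← Nat.cast_pow, (ZMod.natCast_eq_natCast_iff _ _ _).2 hmod, Nat.cast_one]
    have hu2 : u ^ (2 ^ (e - 1)) = 1 := by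
      have h1 := pow_card_eq_one (x := u)
      rw [ZMod.card_units_eq_totient, Nat.totient_prime_pow Nat.prime_two (by omega)] at h1
      simpa using h1
    have hcop : Nat.Coprime q (2 ^ (e - 1)) := by
      apply Nat.Coprime.pow_right
      exact Nat.coprime_two_right.2 hα
    have hu : u = 1 := by
      have := pow_gcd_eq_one.2 ⟨hu1, hu2⟩
      rwa [hcop.gcd_eq_one, pow_one] at this
    have h3 : ((a : ℕ) : ZMod (2 ^ e)) = ((1 : ℕ) : ZMod (2 ^ e)) := by
      have := congrArg Units.val hu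
      simpa [u, ZMod.coe_unitOfCoprime] using this
    have h4 := (ZMod.natCast_eq_natCast_iff _ _ _).1 h3
    have h5 : r ^ a = r ^ 1 := (pow_eq_pow_iff_modEq).2 (by rw [hr]; exact h4)
    rw [h5, pow_one]
  -- the image of `s`
  obtain ⟨b, hb⟩ : ∃ b : ℕ, α s = s * r ^ b := by
    rcases hX (α s) with ⟨i, h⟩ | h
    · exfalso
      have h1 : α s = α (r ^ i) := by rw [map_pow, hfix, h]
      exact hsr i (α.injective h1)
    · exact h
  have hpows : ∀ n : ℕ, (α ^ n) s = s * r ^ (n * b) := by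
    intro n
    induction n with
    | zero => simp
    | succ n ih =>
      rw [pow_succ', MulAut.mul_apply, ih, map_mul, map_pow, hfix, hb, mul_assoc, ← pow_add]
      congr 2
      ring
  have hb1 : (r ^ b) ^ q = 1 := by
    have h1 := hpows q
    rw [hq1] at h1
    have h2 : s = s * r ^ (q * b) := h1
    have h3 : r ^ (q * b) = 1 := by
      have := mul_left_cancel (a := s) (b := 1) (c := r ^ (q * b)) (by rw [mul_one]; exact h2)
      exact this.symm
    rw [← pow_mul, mul_comm]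
    exact h3
  have hb2 : (r ^ b) ^ 2 ^ e = 1 := by
    rw [← pow_mul, mul_comm, pow_mul, ← hr, pow_orderOf_eq_one, one_pow]
  have hb3 : r ^ b = 1 := by
    have := pow_gcd_eq_one.2 ⟨hb1, hb2⟩
    have hcop : Nat.Coprime q (2 ^ e) := Nat.Coprime.pow_right _ (Nat.coprime_two_right.2 hα)
    rwa [hcop.gcd_eq_one, pow_one] at this
  have hsfix : α s = s := by rw [hb, hb3, mul_one]
  ext x
  rcases hX x with ⟨i, rfl⟩ | ⟨i, rfl⟩
  · rw [map_pow, hfix]
    rfl
  · rw [map_mul, map_pow, hfix, hsfix]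
    rfl


/-- Automorphism group of a dihedral 2-group of order at least eight is a 2-group. -/
theorem isP_aut_dih {k : ℕ} (hk : 2 ≤ k) : IsPGroup 2 (MulAut (DihedralGroup (2 ^ k))) := by
  have hne : NeZero (2 ^ k) := ⟨by positivity⟩
  have : Finite (MulAut (DihedralGroup (2 ^ k))) := inferInstance
  apply isPGroup_two_of_odd_trivial
  intro α hα
  refine aut_odd_trivial₂ (DihedralGroup.r 1) (DihedralGroup.sr 0) hk DihedralGroup.orderOf_r_one ?_ ?_ ?_ α hα
  · intro i
    rw [DihedralGroup.r_one_pow, DihedralGroup.sr_mul_r]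
    rw [pow_two, DihedralGroup.sr_mul_self]
  · intro i h
    rw [DihedralGroup.r_one_pow] at h
    exact absurd h (by simp)
  · rintro (x | x)
    · left
      refine ⟨x.val, ?_⟩
      rw [DihedralGroup.r_one_pow, ZMod.natCast_zmod_val]
    · right
      refine ⟨x.val, ?_⟩
      rw [DihedralGroup.r_one_pow, DihedralGroup.sr_mul_r, ZMod.natCast_zmod_val, zero_add]

/-- Automorphisms of a cyclic 2-group form a 2-group. -/
theorem isP_aut_cyclic {A : Type*} [Group A] [Finite A] [IsCyclic A] (h : IsPGroup 2 A) : IsPGroup 2 (MulAut A) := by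
  haveI : Fact (Nat.Prime 2) := ⟨Nat.prime_two⟩
  obtain ⟨k, hk⟩ := IsPGroup.iff_card.mp h
  have h3 : Nat.card (MulAut A) = Nat.totient (2 ^ k) := by rw [IsCyclic.card_mulAut, hk]
  rcases k with _ | k
  · exact IsPGroup.of_card (n := 0) (by simpa using h3)
  · rw [Nat.totient_prime_pow_succ Nat.prime_two] at h3
    exact IsPGroup.of_card (n := k) (by simpa using h3)

section D

variable {k : ℕ} [hne : NeZero (2 ^ k)]

theorem mem_rot (x : DihedralGroup (2 ^ k)) : x ∈ zpowers (r 1 : DihedralGroup (2 ^ k)) ↔ ∃ i, x = r i := by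
  constructor
  · intro hx
    obtain ⟨n, hn⟩ := mem_powers_iff_mem_zpowers.2 hx
    exact ⟨n, by rw [← hn]; exact DihedralGroup.r_one_pow n⟩
  · rintro ⟨i, rfl⟩
    have h1 : (r i : DihedralGroup (2 ^ k)) = (r 1) ^ i.val := by
      rw [DihedralGroup.r_one_pow, ZMod.natCast_zmod_val]
    rw [h1]
    exact Subgroup.pow_mem _ (mem_zpowers _) _

theorem sr_nmem_rot (j : ZMod (2 ^ k)) : (sr j : DihedralGroup (2 ^ k)) ∉ zpowers (r 1 : DihedralGroup (2 ^ k)) := by
  intro h
  obtain ⟨i, hi⟩ := (mem_rot _).mp h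
  cases hi

theorem isP_sub (Q : Subgroup (DihedralGroup (2 ^ k))) : IsPGroup 2 Q := by
  haveI : Fact (Nat.Prime 2) := ⟨Nat.prime_two⟩
  have h1 : IsPGroup 2 (DihedralGroup (2 ^ k)) :=
    IsPGroup.of_card (n := k + 1) (by rw [DihedralGroup.nat_card, pow_succ']; )
  exact h1.to_subgroup Q

theorem exponent_two_of {A : Type*} [Group A] [Finite A] (h : ∀ a : A, a ^ 2 = 1) (hn : Nontrivial A) :
    Monoid.exponent A = 2 := by
  have h1 : Monoid.exponent A ∣ 2 := Monoid.exponent_dvd_of_forall_pow_eq_one h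
  rcases (Nat.dvd_prime Nat.prime_two).mp h1 with h2 | h2
  · exfalso
    rw [Monoid.exp_eq_one_iff] at h2
    exact not_subsingleton A h2
  · exact h2

/-- Subgroups of a dihedral 2-group whose automorphism group is not a 2-group are four-groups. -/
theorem dih_sub_aut (Q : Subgroup (DihedralGroup (2 ^ k))) (hQ : ¬ IsPGroup 2 (MulAut Q)) : IsKleinFour Q := by
  classical
  by_cases hrefl : ∃ j, (sr j : DihedralGroup (2 ^ k)) ∈ Q
  · obtain ⟨j, hj⟩ := hrefl
    obtain ⟨c, hc⟩ := exists_zpowers_eq_of_le_zpowers (inf_le_right : Q ⊓ zpowers (r 1 : DihedralGroup (2 ^ k)) ≤ zpowers (r 1))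
    have hcmem : c ∈ Q ⊓ zpowers (r 1 : DihedralGroup (2 ^ k)) := by rw [hc]; exact mem_zpowers c
    have hcQ : c ∈ Q := hcmem.1
    have hcR : c ∈ zpowers (r 1 : DihedralGroup (2 ^ k)) := hcmem.2
    have hord : ∃ e, orderOf c = 2 ^ e := by
      have h1 := isP_sub (zpowers c)
      haveI : Fact (Nat.Prime 2) := ⟨Nat.prime_two⟩
      obtain ⟨e, he⟩ := IsPGroup.iff_card.mp h1
      exact ⟨e, by rw [← he, Nat.card_zpowers]⟩
    obtain ⟨e, he⟩ := hord
    have hzc : ∀ x ∈ zpowers c, ∃ l, x = r l := fun x hx => by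
      have h1 : x ∈ Q ⊓ zpowers (r 1 : DihedralGroup (2 ^ k)) := by rw [hc]; exact hx
      exact (mem_rot x).mp h1.2
    have hzc2 : ∀ x ∈ zpowers c, x ∈ Q := fun x hx => by
      have h1 : x ∈ Q ⊓ zpowers (r 1 : DihedralGroup (2 ^ k)) := by rw [hc]; exact hx
      exact h1.1
    have hform : ∀ x ∈ Q, x ∈ zpowers c ∨ (sr j : DihedralGroup (2 ^ k))⁻¹ * x ∈ zpowers c := by
      intro x hx
      rcases x with i | i
      · left
        rw [← hc]
        exact ⟨hx, (mem_rot _).mpr ⟨i, rfl⟩⟩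
      · right
        rw [← hc]
        refine ⟨Q.mul_mem (Q.inv_mem hj) hx, (mem_rot _).mpr ⟨i - j, ?_⟩⟩
        rw [DihedralGroup.inv_sr, DihedralGroup.sr_mul_sr]
    have hcardQ : Nat.card Q = 2 * 2 ^ e := by
      have h1 : ((zpowers (r 1 : DihedralGroup (2 ^ k))).subgroupOf Q).index = 2 := by
        rw [Subgroup.index_eq_two_iff]
        refine ⟨⟨_, hj⟩, ?_⟩
        rintro ⟨x, hx⟩
        rw [Subgroup.mem_subgroupOf, Subgroup.mem_subgroupOf]
        rcases x with i | i
        · refine Or.inr ⟨(mem_rot _).mpr ⟨i, rfl⟩, ?_⟩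
          show ¬ (r i * sr j : DihedralGroup (2 ^ k)) ∈ zpowers (r 1 : DihedralGroup (2 ^ k))
          rw [DihedralGroup.r_mul_sr]
          exact sr_nmem_rot _
        · refine Or.inl ⟨?_, sr_nmem_rot _⟩
          show (sr i * sr j : DihedralGroup (2 ^ k)) ∈ zpowers (r 1 : DihedralGroup (2 ^ k))
          rw [DihedralGroup.sr_mul_sr]
          exact (mem_rot _).mpr ⟨_, rfl⟩
      have h2 := ((zpowers (r 1 : DihedralGroup (2 ^ k))).subgroupOf Q).card_mul_index
      rw [h1] at h2
      have h3 : Nat.card ((zpowers (r 1 : DihedralGroup (2 ^ k))).subgroupOf Q) = Nat.card (zpowers c) := by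
        rw [← hc, ← Subgroup.card_map_of_injective Q.subtype_injective, Subgroup.subgroupOf_map_subtype, inf_comm]
      rw [h3, Nat.card_zpowers, he] at h2
      rw [← h2]
      ring
    rcases e with _ | _ | e
    · -- cyclic of order two
      exfalso
      apply hQ
      have h1 : Nat.card Q = 2 := by rw [hcardQ]; norm_num
      haveI : Fact (Nat.Prime 2) := ⟨Nat.prime_two⟩
      haveI : IsCyclic Q := isCyclic_of_prime_card h1
      exact isP_aut_cyclic (isP_sub Q)
    · refine ⟨by rw [hcardQ]; norm_num, ?_⟩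
      have hn : Nontrivial Q := by
        have h1 : Nat.card Q = 4 := by rw [hcardQ]; norm_num
        exact (Finite.one_lt_card_iff_nontrivial).mp (by rw [h1]; norm_num)
      apply exponent_two_of _ hn
      rintro ⟨x, hx⟩
      apply Subtype.ext
      show x ^ 2 = 1
      rcases hform x hx with h1 | h1
      · have h2 : c ^ 2 = 1 := by
          have := pow_orderOf_eq_one c
          rw [he] at this
          simpa using this
        obtain ⟨n, hn⟩ := mem_zpowers_iff.mp h1
        rw [← hn, ← zpow_natCast, ← zpow_mul, mul_comm, zpow_mul, zpow_natCast, h2, one_zpow]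
      · rcases x with i | i
        · exfalso
          obtain ⟨l, hl⟩ := hzc _ h1
          rw [DihedralGroup.inv_sr, DihedralGroup.sr_mul_r] at hl
          cases hl
        · rw [pow_two, DihedralGroup.sr_mul_self]
    · exfalso
      apply hQ
      have : Finite (MulAut Q) := inferInstance
      apply isPGroup_two_of_odd_trivial
      intro α hα
      have he2 : 2 ≤ e + 1 + 1 := by omega
      refine aut_odd_trivial₂ (⟨c, hcQ⟩ : Q) (⟨sr j, hj⟩ : Q) he2 ?_ ?_ ?_ ?_ α hα
      · rw [← he, ← Subgroup.orderOf_mk c hcQ]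
      · intro i
        apply Subtype.ext
        obtain ⟨l, hl⟩ := hzc (c ^ i) (Subgroup.pow_mem _ (mem_zpowers c) i)
        show ((sr j : DihedralGroup (2 ^ k)) * c ^ i) ^ 2 = 1
        rw [hl, DihedralGroup.sr_mul_r, pow_two, DihedralGroup.sr_mul_self]
      · intro i h
        have h1 : (sr j : DihedralGroup (2 ^ k)) = c ^ i := congrArg Subtype.val h
        obtain ⟨l, hl⟩ := hzc (c ^ i) (Subgroup.pow_mem _ (mem_zpowers c) i)
        rw [hl] at h1
        cases h1
      · rintro ⟨x, hx⟩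
        rcases hform x hx with h1 | h1
        · left
          obtain ⟨n, hn⟩ := mem_powers_iff_mem_zpowers.2 h1
          exact ⟨n, Subtype.ext hn.symm⟩
        · right
          obtain ⟨n, hn⟩ := mem_powers_iff_mem_zpowers.2 h1
          refine ⟨n, Subtype.ext ?_⟩
          show x = (sr j : DihedralGroup (2 ^ k)) * c ^ n
          have hn' : c ^ n = (sr j : DihedralGroup (2 ^ k))⁻¹ * x := hn
          rw [hn']
          group
  · exfalso
    apply hQ
    push Not at hrefl
    have h1 : Q ≤ zpowers (r 1 : DihedralGroup (2 ^ k)) := by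
      intro x hx
      rcases x with i | i
      · exact (mem_rot _).mpr ⟨i, rfl⟩
      · exact absurd hx (hrefl i)
    obtain ⟨c, hc⟩ := exists_zpowers_eq_of_le_zpowers h1
    haveI : IsCyclic Q := by
      rw [hc]
      infer_instance
    exact isP_aut_cyclic (isP_sub Q)

end D

section F

variable {X : Type*} [Group X] [Finite X]

/-- A dihedral Sylow subgroup has order a power of two. -/
theorem dih_two_pow (P : Sylow 2 X) {m : ℕ} (hm : 2 ≤ m) (e : (P : Subgroup X) ≃* DihedralGroup m) :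
    ∃ k : ℕ, 1 ≤ k ∧ m = 2 ^ k := by
  haveI : Fact (Nat.Prime 2) := ⟨Nat.prime_two⟩
  obtain ⟨a, ha⟩ := IsPGroup.iff_card.mp P.isPGroup'
  have h1 : Nat.card (P : Subgroup X) = 2 * m := by
    rw [Nat.card_congr e.toEquiv, DihedralGroup.nat_card]
  rw [ha] at h1
  rcases a with _ | a
  · simp at h1
    omega
  · refine ⟨a, ?_, ?_⟩
    · rcases a with _ | a
      · simp at h1
        omega
      · omega
    · rw [pow_succ'] at h1
      omega

theorem dih_aut (P : Sylow 2 X) {m : ℕ} (hm : 3 ≤ m) (e : (P : Subgroup X) ≃* DihedralGroup m) :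
    IsPGroup 2 (MulAut (P : Subgroup X)) := by
  obtain ⟨k, hk, rfl⟩ := dih_two_pow P (by omega) e
  have hk2 : 2 ≤ k := by
    by_contra h
    have h1 : k = 1 := by omega
    rw [h1] at hm
    norm_num at hm
  exact isPGroup_mulAut_congr e (isP_aut_dih hk2)

theorem dih_ess (P : Sylow 2 X) {m : ℕ} (hm : 2 ≤ m) (e : (P : Subgroup X) ≃* DihedralGroup m) (Q : Subgroup X) (hQP : Q ≤ P)
    (hQ : ¬ IsPGroup 2 (MulAut Q)) : IsKleinFour Q := by
  obtain ⟨k, hk, rfl⟩ := dih_two_pow P hm e
  haveI hne : NeZero (2 ^ k) := ⟨by positivity⟩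
  let Q' : Subgroup (DihedralGroup (2 ^ k)) := (Q.subgroupOf P).map e.toMonoidHom
  have e1 : Q ≃* Q' := (Subgroup.subgroupOfEquivOfLe hQP).symm.trans ((Q.subgroupOf P).equivMapOfInjective _ e.injective)
  have h2 : IsKleinFour Q' := dih_sub_aut Q' (fun h => hQ (isPGroup_mulAut_congr e1 h))
  exact klein_of_equiv e1.symm h2

/-- Elements normalizing a Sylow 2-subgroup with automorphism group a 2-group act as elements of it. -/
theorem norm_act_of_isP (P : Sylow 2 X) (hA : IsPGroup 2 (MulAut (P : Subgroup X))) {g : X}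
    (hg : g ∈ normalizer ((P : Subgroup X) : Set X)) : ∃ s ∈ (P : Subgroup X), ∀ u ∈ (P : Subgroup X), g * u * g⁻¹ = s * u * s⁻¹ := by
  haveI : Fact (Nat.Prime 2) := ⟨Nat.prime_two⟩
  obtain ⟨y, z, hy, hz, hgyz, ⟨n, hn⟩, hcop⟩ := exists_pow_decomp g (p := 2) Nat.prime_two
  have hyN : y ∈ normalizer ((P : Subgroup X) : Set X) := (zpowers_le.mpr hg) hy
  have hzN : z ∈ normalizer ((P : Subgroup X) : Set X) := (zpowers_le.mpr hg) hz
  have hyP : y ∈ (P : Subgroup X) := by
    obtain ⟨j, -, hj⟩ := (Nat.dvd_prime_pow Nat.prime_two).1 (orderOf_dvd_of_pow_eq_one hn)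
    exact Cfsg.Agent.H19.mem_sylow_of_mem_normalizer P hj hyN
  let σ := (P : Subgroup X).normalizerMonoidHom ⟨z, hzN⟩
  have hσ : σ = 1 := by
    obtain ⟨l, hl⟩ := hA σ
    have h3 : σ ^ orderOf z = 1 := by
      change ((P : Subgroup X).normalizerMonoidHom ⟨z, hzN⟩) ^ orderOf z = 1
      rw [← map_pow]
      have : (⟨z, hzN⟩ : normalizer ((P : Subgroup X) : Set X)) ^ orderOf z = 1 := Subtype.ext (pow_orderOf_eq_one z)
      rw [this, map_one]
    have h4 : orderOf σ ∣ Nat.gcd (2 ^ l) (orderOf z) :=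
      Nat.dvd_gcd (orderOf_dvd_of_pow_eq_one hl) (orderOf_dvd_of_pow_eq_one h3)
    have h5 : Nat.gcd (2 ^ l) (orderOf z) = 1 :=
      Nat.Coprime.pow_left l hcop.symm
    rw [h5, Nat.dvd_one, orderOf_eq_one_iff] at h4
    exact h4
  refine ⟨y, hyP, fun u hu => ?_⟩
  have h6 : σ ⟨u, hu⟩ = ⟨u, hu⟩ := by rw [hσ]; rfl
  have h7 : z * u * z⁻¹ = u := congrArg Subtype.val h6
  rw [hgyz]
  calc y * z * u * (y * z)⁻¹ = y * (z * u * z⁻¹) * y⁻¹ := by group
    _ = _ := by rw [h7]

/-- Fusion with dihedral Sylow subgroups is controlled by the normalizers of four-subgroups. -/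
theorem dih_fus (P : Sylow 2 X) {m : ℕ} (hm : 2 ≤ m) (e : (P : Subgroup X) ≃* DihedralGroup m)
    (R : X → X → Prop) (hsymm : ∀ {u v : X}, R u v → R v u)
    (htrans : ∀ {u v w : X}, R u v → R v w → R u w)
    (hconj : ∀ s ∈ (P : Subgroup X), ∀ u ∈ (P : Subgroup X), R (s * u * s⁻¹) u)
    (hK : ∀ U : Subgroup X, U ≤ P → IsKleinFour U → ∀ g ∈ normalizer (U : Set X), ∀ u ∈ U, R (g * u * g⁻¹) u) :
    ∀ u ∈ (P : Subgroup X), ∀ g : X, g * u * g⁻¹ ∈ (P : Subgroup X) → R (g * u * g⁻¹) u := by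
  haveI : Fact (Nat.Prime 2) := ⟨Nat.prime_two⟩
  refine fus_rel P R hsymm htrans hconj ?_
  intro Q hQP hQ g hg u hu
  by_cases hA : IsPGroup 2 (MulAut Q)
  · rcases hQ with rfl | hQ
    · obtain ⟨s, hs, h1⟩ := norm_act_of_isP P hA hg
      rw [h1 u hu]
      exact hconj s hs u hu
    · exact absurd hA hQ.2
  · exact hK Q hQP (dih_ess P hm e Q hQP hA) g hg u hu

/-- Subgroup-level version: Fusion with dihedral Sylow subgroups is controlled by the normalizers of four-subgroups. -/
theorem dih_fusS (P : Sylow 2 X) {m : ℕ} (hm : 2 ≤ m) (e : (P : Subgroup X) ≃* DihedralGroup m)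
    (R : Subgroup X → Subgroup X → Prop) (hsymm : ∀ {u v : Subgroup X}, R u v → R v u)
    (htrans : ∀ {u v w : Subgroup X}, R u v → R v w → R u w)
    (hconj : ∀ s ∈ (P : Subgroup X), ∀ W ≤ (P : Subgroup X), R (W.map (MulAut.conj s).toMonoidHom) W)
    (hK : ∀ U : Subgroup X, U ≤ P → IsKleinFour U → ∀ g ∈ normalizer (U : Set X), ∀ W ≤ U, R (W.map (MulAut.conj g).toMonoidHom) W) :
    ∀ W ≤ (P : Subgroup X), ∀ g : X, W.map (MulAut.conj g).toMonoidHom ≤ (P : Subgroup X) → R (W.map (MulAut.conj g).toMonoidHom) W := by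
  haveI : Fact (Nat.Prime 2) := ⟨Nat.prime_two⟩
  refine fus_relS P R hsymm htrans hconj ?_
  intro Q hQP hQ g hg W hW
  by_cases hA : IsPGroup 2 (MulAut Q)
  · rcases hQ with rfl | hQ
    · obtain ⟨s, hs, h1⟩ := norm_act_of_isP P hA hg
      have h2 : W.map (MulAut.conj g).toMonoidHom = W.map (MulAut.conj s).toMonoidHom := by
        ext v
        constructor
        · rintro ⟨w, hw, rfl⟩
          exact ⟨w, hw, (h1 w (hW hw)).symm⟩
        · rintro ⟨w, hw, rfl⟩
          exact ⟨w, hw, h1 w (hW hw)⟩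
      rw [h2]
      exact hconj s hs W hW
    · exact absurd hA hQ.2
  · exact hK Q hQP (dih_ess P hm e Q hQP hA) g hg W hW

end F

end Cfsg.Agent.H05
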