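import Cfsg.Agent.Lib.H05.FusRel

/-!
# Fusion-invariant relations on subgroups via the Alperin--Goldschmidt theorem
-/

set_option autoImplicit false
set_option linter.style.haveILetI false
set_option linter.unusedSectionVars false
set_option linter.unusedVariables false
set_option linter.unusedSimpArgs false

namespace Cfsg.Agent.H05

open Subgroup Cfsg Cfsg.FusionSystem
open Cfsg.Agent.H24

variable {G : Type*} [Group G] [Finite G]

/-- The fusion system of the maps preserving an equivalence relation on subgroups. -/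
def relSystemS (P : Subgroup G) (R : Subgroup G → Subgroup G → Prop) (hsymm : ∀ {u v : Subgroup G}, R u v → R v u)
    (htrans : ∀ {u v w : Subgroup G}, R u v → R v w → R u w)
    (hconj : ∀ s ∈ P, ∀ W ≤ P, R (W.map (MulAut.conj s).toMonoidHom) W) : FusionSystem P where
  Hom Q := {φ | φ ∈ (groupFusionSystem P).Hom Q ∧ ∀ W : Subgroup Q, R (W.map φ) (W.map Q.subtype)}
  le_of_mem h := (groupFusionSystem P).le_of_mem h.1
  injective_of_mem h := (groupFusionSystem P).injective_of_mem h.1
  conj_mem := by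
    intro Q g hQ hg
    refine ⟨(groupFusionSystem P).conj_mem hQ hg, fun W => ?_⟩
    have h1 := hconj g hg (W.map Q.subtype) (by
      rintro _ ⟨y, _, rfl⟩
      exact hQ y.2)
    have h2 : (W.map Q.subtype).map (MulAut.conj g).toMonoidHom = W.map (conjHom Q g) := by
      rw [Subgroup.map_map]
      rfl
    rwa [h2] at h1
  comp_mem := by
    intro Q Q' φ ψ hφ hψ hh
    refine ⟨(groupFusionSystem P).comp_mem hφ.1 hψ.1 hh, fun W => ?_⟩
    have h1 := hψ.2 (W.map (φ.codRestrict Q' hh))
    have h2 := hφ.2 W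
    have h3 : (W.map (φ.codRestrict Q' hh)).map Q'.subtype = W.map φ := by
      rw [Subgroup.map_map]
      rfl
    rw [h3] at h1
    have h4 : (W.map (φ.codRestrict Q' hh)).map ψ = W.map (ψ.comp (φ.codRestrict Q' hh)) := by
      rw [Subgroup.map_map]
    rw [h4] at h1
    exact htrans h1 h2
  inv_mem := by
    intro Q φ hφ
    obtain ⟨ψ, hψ, hv⟩ := (groupFusionSystem P).inv_mem hφ.1
    refine ⟨ψ, ⟨hψ, ?_⟩, hv⟩
    intro W'
    let W : Subgroup Q := W'.comap φ.rangeRestrict
    have h1 := hφ.2 W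
    have h2 : W.map φ = W'.map φ.range.subtype := by
      ext y
      constructor
      · rintro ⟨x, hx, rfl⟩
        exact ⟨φ.rangeRestrict x, hx, rfl⟩
      · rintro ⟨⟨_, x, rfl⟩, hy, rfl⟩
        exact ⟨x, hy, rfl⟩
    have h3 : W.map Q.subtype = W'.map ψ := by
      ext y
      constructor
      · rintro ⟨x, hx, rfl⟩
        exact ⟨φ.rangeRestrict x, hx, hv x⟩
      · rintro ⟨⟨_, x, rfl⟩, hy, rfl⟩
        exact ⟨x, hy, (hv x).symm⟩
    rw [h2, h3] at h1
    exact hsymm h1

theorem fus_relS {p : ℕ} [Fact p.Prime] (P : Sylow p G) (R : Subgroup G → Subgroup G → Prop) (hsymm : ∀ {u v : Subgroup G}, R u v → R v u)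
    (htrans : ∀ {u v w : Subgroup G}, R u v → R v w → R u w)
    (hconj : ∀ s ∈ (P : Subgroup G), ∀ W ≤ (P : Subgroup G), R (W.map (MulAut.conj s).toMonoidHom) W)
    (hess : ∀ Q : Subgroup G, Q ≤ P → (Q = P ∨ ((∀ c ∈ (P : Subgroup G), c ∈ centralizer (Q : Set G) → c ∈ Q) ∧ ¬ IsPGroup p (MulAut Q))) →
      ∀ g ∈ normalizer (Q : Set G), ∀ W ≤ Q, R (W.map (MulAut.conj g).toMonoidHom) W) :
    ∀ W ≤ (P : Subgroup G), ∀ g : G, W.map (MulAut.conj g).toMonoidHom ≤ (P : Subgroup G) → R (W.map (MulAut.conj g).toMonoidHom) W := by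
  set F := groupFusionSystem (P : Subgroup G) with hF
  have hsat : F.IsSaturated p := groupFusion_saturated P
  set E := relSystemS (P : Subgroup G) R hsymm htrans hconj with hE
  have hle : F ≤ E := by
    refine alperin_goldschmidt P.2 hsat E ?_
    intro Q hQ α hα
    have hQS : Q ≤ P := by
      rcases hQ with rfl | hQ
      · exact le_rfl
      · exact hQ.1.1
    have hφ := (mem_autGroup_iff hQS α).1 hα
    refine (mem_autGroup_iff hQS α).2 ⟨hφ, fun W => ?_⟩
    obtain ⟨-, -, g, hg⟩ := hφ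
    have hgN : g ∈ normalizer (Q : Set G) := by
      apply nmem_of_conj
      intro x hx
      have h1 := hg ⟨x, hx⟩
      have h2 : ((α ⟨x, hx⟩ : Q) : G) = g * x * g⁻¹ := h1
      rw [← h2]
      exact (α ⟨x, hx⟩).2
    have hgu : ∀ u : Q, (Q.subtype.comp α.toMonoidHom) u = g * (u : G) * g⁻¹ := hg
    have hmapW : W.map (Q.subtype.comp α.toMonoidHom) = (W.map Q.subtype).map (MulAut.conj g).toMonoidHom := by
      ext y
      constructor
      · rintro ⟨x, hx, rfl⟩
        exact ⟨x, ⟨x, hx, rfl⟩, (hgu x).symm⟩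
      · rintro ⟨_, ⟨x, hx, rfl⟩, rfl⟩
        exact ⟨x, hx, hgu x⟩
    rw [hmapW]
    have hWQ : W.map Q.subtype ≤ Q := by
      rintro _ ⟨y, _, rfl⟩
      exact y.2
    rcases hQ with hQ | hQ
    · exact hess Q hQS (Or.inl hQ) g hgN _ hWQ
    · by_cases hp : IsPGroup p (F.autGroup Q)
      · have hR := (isRadical_of_isEssential P.2 hQ).2
        haveI hfQ : Finite Q := inferInstance
        have hTop : pCore p (F.autGroup Q) = ⊤ := by
          rw [eq_top_iff]
          exact Cfsg.Agent.H01.le_pCore (N := ⊤) (by infer_instance) (hp.to_subgroup ⊤)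
        rw [hTop, ← MonoidHom.range_eq_map, Subgroup.range_subtype] at hR
        have hαI : α ∈ Inn Q := hR ▸ hα
        obtain ⟨y, rfl⟩ := hαI
        have h1 : (W.map Q.subtype).map (MulAut.conj g).toMonoidHom = (W.map Q.subtype).map (MulAut.conj (y : G)).toMonoidHom := by
          rw [← hmapW]
          ext v
          constructor
          · rintro ⟨x, hx, rfl⟩
            exact ⟨x, ⟨x, hx, rfl⟩, rfl⟩
          · rintro ⟨_, ⟨x, hx, rfl⟩, rfl⟩
            exact ⟨x, hx, rfl⟩
        rw [h1]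
        exact hconj _ (hQS y.2) _ (hWQ.trans hQS)
      · refine hess Q hQS (Or.inr ⟨?_, fun h1 => hp (h1.to_subgroup _)⟩) g hgN _ hWQ
        intro c hc hcQ
        have h1 := hQ.1.2 Q ⟨conjHom Q 1, F.conj_mem hQS (one_mem _), ?_⟩ (show c ∈ centralizerIn _ Q from ⟨hc, hcQ⟩)
        · exact h1
        · ext x
          constructor
          · rintro ⟨y, rfl⟩
            show 1 * (y : G) * 1⁻¹ ∈ Q
            simpa using y.2
          · intro hx
            exact ⟨⟨x, hx⟩, by simp [conjHom]⟩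
  intro W hW g hg
  have hφ : conjHom W g ∈ F.Hom W := by
    refine ⟨hW, ?_, g, fun x => rfl⟩
    intro x
    exact hg ⟨x, x.2, rfl⟩
  have h1 := (hle _ hφ).2 ⊤
  have h2 : (⊤ : Subgroup W).map (conjHom W g) = W.map (MulAut.conj g).toMonoidHom := by
    ext v
    constructor
    · rintro ⟨x, _, rfl⟩
      exact ⟨x, x.2, rfl⟩
    · rintro ⟨x, hx, rfl⟩
      exact ⟨⟨x, hx⟩, trivial, rfl⟩
  have h3 : (⊤ : Subgroup W).map W.subtype = W := by
    rw [← MonoidHom.range_eq_map, Subgroup.range_subtype]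
  rw [h2, h3] at h1
  exact h1

end Cfsg.Agent.H05
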