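import Cfsg.Agent.Lib.H05.PComp3

/-!
# Local subgroups of groups of characteristic `p` type
-/

set_option autoImplicit false
set_option linter.style.haveILetI false
set_option linter.unusedSectionVars false

namespace Cfsg.Agent.H05

open Subgroup Cfsg
open scoped commutatorElement

section
universe u
variable {G : Type u} [Group G]

/-- S1292. -/
theorem fstar_normalizer_of_involutions [Finite G]
    (h : ∀ t : G, orderOf t = 2 → generalizedFittingSubgroup (centralizer ({t} : Set G)) =
      pCore 2 (centralizer ({t} : Set G)))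
    (T : Subgroup G) (hT : IsPGroup 2 T) (hT1 : T ≠ ⊥) :
    generalizedFittingSubgroup (normalizer (T : Set G)) = pCore 2 (normalizer (T : Set G)) := by
  -- an involution in the centre of `T`
  haveI : Nontrivial T := (Subgroup.nontrivial_iff_ne_bot T).mpr hT1
  haveI hZ : Nontrivial (center T) := hT.center_nontrivial
  obtain ⟨t₀, ht₀⟩ : ∃ t : center T, orderOf t = 2 := by
    have hd : 2 ∣ Nat.card (center T) := by
      have hp : IsPGroup 2 (center T) := by
        intro x
        obtain ⟨k, hk⟩ := hT (x : T)
        exact ⟨k, Subtype.ext (by simpa using hk)⟩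
      obtain ⟨n, hn⟩ := IsPGroup.iff_card.mp hp
      have h1 : 1 < Nat.card (center T) := Finite.one_lt_card
      rw [hn] at h1 ⊢
      have hn0 : n ≠ 0 := by
        rintro rfl
        simp at h1
      exact dvd_pow_self 2 hn0
    exact exists_prime_orderOf_dvd_card' 2 hd
  set t : G := ((t₀ : T) : G) with ht
  have htT : t ∈ T := (t₀ : T).2
  have hto : orderOf t = 2 := by
    rw [ht, Subgroup.orderOf_coe, Subgroup.orderOf_coe]
    exact ht₀
  have htZ : ∀ x ∈ T, x * t = t * x := by
    intro x hx
    have := mem_center_iff.mp t₀.2 ⟨x, hx⟩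
    exact congrArg Subtype.val this
  set C : Subgroup G := centralizer ({t} : Set G) with hC
  have hmemC : ∀ y, y ∈ C ↔ y * t = t * y := by
    intro y
    rw [hC, mem_centralizer_singleton_iff]
  have hTC : T ≤ C := fun x hx => (hmemC x).mpr (htZ x hx)
  set TC : Subgroup C := T.subgroupOf C with hTCdef
  have hTCp : IsPGroup 2 TC := isPGroup_subgroupOf' hT
  have hN' := fstar_normalizer_of_fstar 2 (h t hto) TC hTCp
  set N' : Subgroup C := normalizer (TC : Set C) with hN'def
  have hN'p : IsPGroup 2 (generalizedFittingSubgroup N') := by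
    rw [hN']
    exact H01.pCore_isPGroup 2
  set N : Subgroup G := normalizer (T : Set G) with hN
  have hι : ∀ m : N', (((m : C) : G)) ∈ N := by
    intro m
    rw [hN, Subgroup.mem_normalizer_iff]
    intro x
    have hmC : ((m : C) : G) ∈ C := (m : C).2
    constructor
    · intro hx
      have h1 := (Subgroup.mem_normalizer_iff.mp m.2 ⟨x, hTC hx⟩).mp (by
        simpa [TC, mem_subgroupOf] using hx)
      exact h1
    · intro hx
      have hxC : x ∈ C := by
        have h1 := C.mul_mem (C.mul_mem (C.inv_mem hmC) (hTC hx)) hmC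
        have e : ((m : C) : G)⁻¹ * (((m : C) : G) * x * ((m : C) : G)⁻¹) * ((m : C) : G) = x := by group
        rwa [e] at h1
      have h1 : (⟨x, hxC⟩ : C) ∈ TC := (Subgroup.mem_normalizer_iff.mp m.2 ⟨x, hxC⟩).mpr hx
      exact h1
  let ι : N' →* N := (C.subtype.comp N'.subtype).codRestrict N hι
  have hιinj : Function.Injective ι := by
    intro a b hab
    have := congrArg Subtype.val hab
    exact Subtype.ext (Subtype.ext this)
  have hrange : ∀ y : N, (y : G) * t = t * y → y ∈ ι.range := by
    intro y hy
    have hyC : (y : G) ∈ C := (hmemC _).mpr hy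
    have hyN' : (⟨y, hyC⟩ : C) ∈ N' := by
      rw [hN'def, Subgroup.mem_normalizer_iff]
      intro x
      constructor
      · intro hx
        exact (Subgroup.mem_normalizer_iff.mp y.2 x).mp hx
      · intro hx
        exact (Subgroup.mem_normalizer_iff.mp y.2 x).mpr hx
    exact ⟨⟨⟨y, hyC⟩, hyN'⟩, rfl⟩
  have hTn : (T.subgroupOf N).Normal :=
    (normal_subgroupOf_iff_le_normalizer Subgroup.le_normalizer).mpr le_rfl
  have hTp : IsPGroup 2 (T.subgroupOf N) := isPGroup_subgroupOf' hT
  have htN : (⟨t, Subgroup.le_normalizer htT⟩ : N) ∈ T.subgroupOf N := by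
    simpa [mem_subgroupOf] using htT
  apply fstar_eq_pCore_of
  · intro L hL
    have hr : L ≤ ι.range := by
      intro y hy
      apply hrange
      have := comp_comm_normal_pGroup hTn hTp hL hy htN
      exact congrArg Subtype.val this
    have hc := comp_comap ι hιinj hL hr
    apply comp_not_le_pGroup hc hN'p
    exact (comp_le_layer hc).trans le_sup_left
  · intro y hy hc
    have hyt := fit_comm_normal_pGroup hTn hTp hy hc htN
    obtain ⟨y', rfl⟩ := hrange y (congrArg Subtype.val hyt)
    set W := zpowers (ι y') with hW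
    have hWsn : W.IsSubnormal := zpowers_subnormal_of_fitting hy
    have hcsn : (W.comap ι).IsSubnormal := hWsn.comap ι
    have hnil : Group.IsNilpotent (W.comap ι) := by
      apply nil_of_comm
      rintro ⟨a, ha⟩ ⟨b, hb⟩
      obtain ⟨i, hi⟩ := Subgroup.mem_zpowers_iff.mp ha
      obtain ⟨j, hj⟩ := Subgroup.mem_zpowers_iff.mp hb
      apply Subtype.ext
      apply hιinj
      show ι a * ι b = ι b * ι a
      rw [← hi, ← hj]
      exact (Commute.refl (ι y')).zpow_zpow i j |>.eq
    have hle := sn_nil_le_fitting hcsn hnil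
    have hy'F : y' ∈ fittingSubgroup N' := hle (Subgroup.mem_zpowers _)
    have hy'Fs : y' ∈ generalizedFittingSubgroup N' := H07.fitting_le_generalized _ hy'F
    have hcy' : (orderOf y').Coprime 2 := by
      have := orderOf_injective ι hιinj y'
      rwa [this] at hc
    rw [eq_one_of_coprime_of_pGroup hN'p hy'Fs hcy']
    simp

end

end Cfsg.Agent.H05
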