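import Cfsg.Agent.Lib.H05.PComp4
import Cfsg.Agent.Lib.H01.Coprime4

/-!
# Local subgroups of `p`-constrained groups
-/

set_option autoImplicit false
set_option linter.style.haveILetI false
set_option linter.unusedSectionVars false

namespace Cfsg.Agent.H05

open Subgroup Cfsg
open scoped commutatorElement

section
universe u
variable {G : Type u} [Group G]

/-- S1293. -/
theorem pLayer_normalizer_of_pLayer_bot [Finite G] (p : ℕ) [hp : Fact p.Prime] (hL : pLayer p G = ⊥)
    (P : Subgroup G) (hP : IsPGroup p P) :
    pLayer p (normalizer (P : Set G)) = ⊥ ∧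
      (pPrimeCore p (normalizer (P : Set G))).map (normalizer (P : Set G)).subtype ≤ pPrimeCore p G := by
  haveI hOn := pp_normal (G := G) p
  set O := pPrimeCore p G with hO
  set f := QuotientGroup.mk' O with hf
  set Qb := pCore p (G ⧸ O) with hQb
  haveI hQbn : Qb.Normal := H01.pCore_normal p
  have hQbp : IsPGroup p Qb := H01.pCore_isPGroup p
  have hlayer : layer (G ⧸ O) = ⊥ := by
    have := pLayer_map_eq (p := p) (X := G)
    rw [hL, Subgroup.map_bot] at this
    exact this.symm
  have hF : fittingSubgroup (G ⧸ O) = Qb := fitting_eq_pCore_of_pp_bot pp_quotient_eq_bot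
  have hC : centralizer (Qb : Set (G ⧸ O)) ≤ Qb := by
    have := (fitting_selfcent_iff (G := G ⧸ O)).mpr hlayer
    rwa [hF] at this
  set H := normalizer (P : Set G) with hH
  have hPH : P ≤ H := Subgroup.le_normalizer
  have hPb : IsPGroup p (P.map f) := hP.map f
  have hcopPO : (Nat.card P).Coprime (Nat.card O) := by
    obtain ⟨n, hn⟩ := IsPGroup.iff_card.mp hP
    rw [hn]
    exact Nat.Coprime.pow_left n (pp_coprime p).symm
  -- lifting
  have hlift : ∀ c : G ⧸ O, (∀ a ∈ P.map f, c * a = a * c) → ∃ y : H, f y = c := by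
    intro c hc
    obtain ⟨c₀, rfl⟩ := QuotientGroup.mk'_surjective O c
    obtain ⟨n, hn, hnc⟩ := H01.key_lemma' (A := P) (N := O) (k := c₀)
      (by rw [normalizer_eq_top]; exact le_top) hcopPO (Or.inl (solvable_of_pGroup hP)) (by
        intro a ha
        rw [← QuotientGroup.eq_one_iff, ← QuotientGroup.mk'_apply]
        have h0 : f c₀ * f a = f a * f c₀ := hc (f a) ⟨a, ha, rfl⟩
        have h00 : f (c₀ * a * c₀⁻¹ * a⁻¹) = 1 := by
          rw [map_mul, map_mul, map_mul, map_inv, map_inv, h0]
          group
        exact h00)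
    refine ⟨⟨n * c₀, hnc⟩, ?_⟩
    show f (n * c₀) = f c₀
    have h1 : f n = 1 := by
      rw [hf, QuotientGroup.mk'_apply, QuotientGroup.eq_one_iff]; exact hn
    rw [map_mul, h1, one_mul]
  -- the key claim
  have hkey : ∀ x : H, (orderOf (x : G)).Coprime p → (∀ a ∈ P, (x : G) * a = a * x) →
      (∀ c : H, f c ∈ Qb → ⁅(x : G), (c : G)⁆ ∈ O) → f x = 1 := by
    intro x hx hxP hxc
    have hxb : (orderOf (f x)).Coprime p :=
      Nat.Coprime.coprime_dvd_left (orderOf_map_dvd f (x : G)) hx
    have h1 := ab_lemma (Q := Qb) (P := P.map f) (x := f x) hQbp hPb hxb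
      (by
        rintro _ ⟨a, ha, rfl⟩
        rw [← map_mul, ← map_mul, hxP a ha])
      (by rw [normalizer_eq_top]; exact le_top)
      (by rw [normalizer_eq_top]; trivial)
      (by
        intro c hc hcP
        obtain ⟨y, rfl⟩ := hlift c hcP
        have := hxc y hc
        rw [← QuotientGroup.eq_one_iff, ← QuotientGroup.mk'_apply, map_commutatorElement,
          commutatorElement_eq_one_iff_mul_comm] at this
        exact this)
    have h2 : f x ∈ Qb := hC (by
      rw [mem_centralizer_iff]
      intro b hb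
      exact (h1 b hb).symm)
    exact eq_one_of_coprime_of_pGroup hQbp h2 hxb
  haveI hOHn := pp_normal (G := H) p
  have hPn : (P.subgroupOf H).Normal := (normal_subgroupOf_iff_le_normalizer hPH).mpr le_rfl
  have hPp : IsPGroup p (P.subgroupOf H) := isPGroup_subgroupOf' hP
  -- part (b)
  have hb : (pPrimeCore p H).map H.subtype ≤ O := by
    rintro _ ⟨x, hx, rfl⟩
    have hxo := pp_order_coprime p hx
    have hxo' : (orderOf (x : G)).Coprime p := by simpa using hxo
    have h1 := hkey x hxo'
      (by
        intro a ha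
        have ha' : (⟨a, hPH ha⟩ : H) ∈ P.subgroupOf H := by simpa [mem_subgroupOf] using ha
        have h2 : ⁅x, (⟨a, hPH ha⟩ : H)⁆ ∈ P.subgroupOf H := by
          rw [commutatorElement_def]
          exact mul_mem (hPn.conj_mem _ ha' x) (inv_mem ha')
        have h3 : ⁅x, (⟨a, hPH ha⟩ : H)⁆ ∈ pPrimeCore p H := by
          rw [commutatorElement_def]
          have e : x * ⟨a, hPH ha⟩ * x⁻¹ * (⟨a, hPH ha⟩ : H)⁻¹ = x * (⟨a, hPH ha⟩ * x⁻¹ * (⟨a, hPH ha⟩ : H)⁻¹) := by group
          rw [e]
          exact mul_mem hx (hOHn.conj_mem _ (inv_mem hx) _)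
        have h4 := eq_one_of_coprime_of_pGroup hPp h2 (pp_order_coprime p h3)
        exact congrArg Subtype.val (commutatorElement_eq_one_iff_mul_comm.mp h4))
      (by
        intro c hc
        have h3 : ⁅x, c⁆ ∈ pPrimeCore p H := by
          rw [commutatorElement_def]
          have e : x * c * x⁻¹ * c⁻¹ = x * (c * x⁻¹ * c⁻¹) := by group
          rw [e]
          exact mul_mem hx (hOHn.conj_mem _ (inv_mem hx) _)
        have h4 : f ⁅(x : G), (c : G)⁆ ∈ Qb := by
          rw [map_commutatorElement, commutatorElement_def]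
          have hq := hQbn.conj_mem _ hc (f x)
          exact mul_mem hq (inv_mem hc)
        have h5 : (orderOf ⁅(x : G), (c : G)⁆).Coprime p := by
          have := pp_order_coprime p h3
          have e : orderOf ⁅x, c⁆ = orderOf ⁅(x : G), (c : G)⁆ := by
            rw [← Subgroup.orderOf_coe]
            rfl
          rwa [e] at this
        have h6 := eq_one_of_coprime_of_pGroup hQbp h4
          (Nat.Coprime.coprime_dvd_left (orderOf_map_dvd f _) h5)
        rw [hf, QuotientGroup.mk'_apply, QuotientGroup.eq_one_iff] at h6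
        exact h6)
    rw [hf, QuotientGroup.mk'_apply, QuotientGroup.eq_one_iff] at h1
    exact h1
  refine ⟨?_, hb⟩
  -- part (a)
  rw [eq_bot_iff]
  refine sSup_le fun K hK => ?_
  exfalso
  set fH := QuotientGroup.mk' (pPrimeCore p H) with hfH
  -- the image of `S`
  let SH : Subgroup H := (Qb.comap f).subgroupOf H
  have hSHn : SH.Normal := inferInstance
  have hOH : ∀ y : H, (y : G) ∈ O → y ∈ pPrimeCore p H := by
    intro y hy
    have hle : O.subgroupOf H ≤ pPrimeCore p H := by
      apply le_pp inferInstance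
      apply coprime_card_of_orders
      intro z hz
      have := pp_order_coprime p (show (z : G) ∈ O from hz)
      simpa using this
    exact hle hy
  have hTn : (SH.map fH).Normal := hSHn.map fH (QuotientGroup.mk'_surjective _)
  have hTp : IsPGroup p (SH.map fH) := by
    rintro ⟨_, y, hy, rfl⟩
    obtain ⟨k, hk⟩ := hQbp ⟨f y, hy⟩
    refine ⟨k, Subtype.ext ?_⟩
    have h1 : f y ^ p ^ k = 1 := by simpa using congrArg Subtype.val hk
    have h2 : ((y : G)) ^ p ^ k ∈ O := by
      rw [← QuotientGroup.eq_one_iff, ← QuotientGroup.mk'_apply, map_pow]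
      exact h1
    have h3 : y ^ p ^ k ∈ pPrimeCore p H := hOH _ (by simpa using h2)
    show (fH y) ^ p ^ k = 1
    rw [← map_pow, hfH, QuotientGroup.mk'_apply, QuotientGroup.eq_one_iff]
    exact h3
  have hKl : ∀ x ∈ K, fH x ∈ layer (H ⧸ pPrimeCore p H) := by
    intro x hx
    have h0 : K.map (QuotientGroup.mk' (pPrimeCore p H)) ≤ layer (H ⧸ pPrimeCore p H) :=
      le_sSup hK.2.1
    exact h0 (Subgroup.mem_map_of_mem _ hx)
  have hKO : ∀ x : H, x ∈ K → (orderOf x).Coprime p → f x = 1 := by
    intro x hxK hxo
    have hxo' : (orderOf (x : G)).Coprime p := by simpa using hxo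
    apply hkey x hxo'
    · intro a ha
      have := preimage_layer_comm hPn hPp (hKl x hxK) (s := ⟨a, hPH ha⟩) (by simpa [mem_subgroupOf] using ha)
      exact congrArg Subtype.val this
    · intro c hc
      have h1 : fH x * fH c = fH c * fH x :=
        comp_comm_normal_pGroup (L := K.map (QuotientGroup.mk' (pPrimeCore p H)))
          (S := SH.map fH) hTn hTp hK.2.1 (Subgroup.mem_map_of_mem _ hxK)
          (Subgroup.mem_map_of_mem _ hc)
      have h2 : ⁅x, c⁆ ∈ pPrimeCore p H := by
        rw [← QuotientGroup.eq_one_iff, ← QuotientGroup.mk'_apply, map_commutatorElement,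
          commutatorElement_eq_one_iff_mul_comm]
        exact h1
      exact hb ⟨_, h2, rfl⟩
  -- `K` lies in `O`
  let W : Subgroup K := (O.comap H.subtype).comap K.subtype
  have hWn : W.Normal := inferInstance
  have hperf : commutator K = ⊤ :=
    Group.isPerfect_def.mp ((Subgroup.isPerfect_iff).mpr (pcomp_perfect hK))
  have hWtop : W = ⊤ := by
    apply eq_top_of_perfect_mod (p := p) W
    · intro y hy
      have h1 := hKO y y.2 (by simpa using hy)
      show ((y : H) : G) ∈ O
      rw [← QuotientGroup.eq_one_iff]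
      exact h1
    · rw [hperf, top_sup_eq]
  have hKle : K ≤ O.comap H.subtype := by
    intro x hx
    have : (⟨x, hx⟩ : K) ∈ W := by rw [hWtop]; trivial
    exact this
  have hd := pcomp_dvd hK
  have hc : (Nat.card K).Coprime p := by
    apply coprime_card_of_orders
    intro x hx
    have := pp_order_coprime p (hKle hx)
    simpa using this
  rw [Nat.coprime_comm, Nat.Prime.coprime_iff_not_dvd hp.out] at hc
  exact hc hd

end

end Cfsg.Agent.H05
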