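import Cfsg.Agent.Lib.H13.CharP

/-!
# Centralizers of transvections over the field with two elements
-/

set_option autoImplicit false
set_option linter.style.haveILetI false
set_option linter.unusedSectionVars false
set_option linter.unusedVariables false
set_option linter.unusedSimpArgs false

namespace Cfsg.Agent.H05

open Subgroup Cfsg Matrix

section

variable {F : Type*} [Field F] [Fintype F] [DecidableEq F] {n : ℕ}

theorem F2_one (hF : Fintype.card F = 2) {x : F} (hx : x ≠ 0) : x = 1 := by
  have h := FiniteField.pow_card_sub_one_eq_one x hx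
  rw [hF] at h
  simpa using h

/-- The matrices which agree with the identity outside the column `j`. -/
def colT (j : Fin n) : Set (SpecialLinearGroup (Fin n) F) :=
  {g | ∀ m, m ≠ j → ∀ a, (g : Matrix (Fin n) (Fin n) F) a m = (1 : Matrix (Fin n) (Fin n) F) a m}

theorem colT_diag (hF : Fintype.card F = 2) {j : Fin n} {g : SpecialLinearGroup (Fin n) F} (hg : g ∈ colT j) :
    (g : Matrix (Fin n) (Fin n) F) j j = 1 := by
  apply F2_one hF
  intro h0
  have h1 : (g : Matrix (Fin n) (Fin n) F).det = 0 := by
    apply Matrix.det_eq_zero_of_row_eq_zero j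
    intro b
    by_cases hb : b = j
    · rw [hb, h0]
    · rw [hg b hb j, Matrix.one_apply_ne (Ne.symm hb)]
  rw [g.2] at h1
  exact one_ne_zero h1

theorem F2_two (hF : Fintype.card F = 2) (x : F) : x + x = 0 := by
  haveI : Fact (Nat.Prime 2) := ⟨Nat.prime_two⟩
  haveI : CharP F 2 := charP_of_card_eq_prime hF
  exact CharTwo.add_self_eq_zero x

theorem colT_sq (hF : Fintype.card F = 2) {j : Fin n} {g : SpecialLinearGroup (Fin n) F} (hg : g ∈ colT j) : g * g = 1 := by
  classical
  apply Subtype.ext
  ext a m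
  show ((g : Matrix (Fin n) (Fin n) F) * (g : Matrix (Fin n) (Fin n) F)) a m = (1 : Matrix (Fin n) (Fin n) F) a m
  rw [Matrix.mul_apply]
  by_cases hm : m = j
  · subst hm
    rw [← Finset.add_sum_erase _ _ (Finset.mem_univ m), colT_diag hF hg, mul_one]
    have h1 : ∀ b ∈ Finset.univ.erase m, (g : Matrix (Fin n) (Fin n) F) a b * (g : Matrix (Fin n) (Fin n) F) b m =
        (1 : Matrix (Fin n) (Fin n) F) a b * (g : Matrix (Fin n) (Fin n) F) b m := by
      intro b hb
      rw [hg b (Finset.ne_of_mem_erase hb) a]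
    rw [Finset.sum_congr rfl h1]
    by_cases ham : a = m
    · subst ham
      rw [colT_diag hF hg, Matrix.one_apply_eq]
      have h2 : ∑ b ∈ Finset.univ.erase a, (1 : Matrix (Fin n) (Fin n) F) a b * (g : Matrix (Fin n) (Fin n) F) b a = 0 := by
        apply Finset.sum_eq_zero
        intro b hb
        rw [Matrix.one_apply_ne (Ne.symm (Finset.ne_of_mem_erase hb)), zero_mul]
      rw [h2, add_zero]
    · rw [Matrix.one_apply_ne ham]
      rw [Finset.sum_eq_single a]
      · rw [Matrix.one_apply_eq, one_mul]
        exact F2_two hF _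
      · intro b _ hb
        rw [Matrix.one_apply_ne (Ne.symm hb), zero_mul]
      · intro h
        exact absurd (Finset.mem_erase.mpr ⟨ham, Finset.mem_univ a⟩) h
  · have h1 : ∀ b ∈ Finset.univ, (g : Matrix (Fin n) (Fin n) F) a b * (g : Matrix (Fin n) (Fin n) F) b m =
        (g : Matrix (Fin n) (Fin n) F) a b * (1 : Matrix (Fin n) (Fin n) F) b m := by
      intro b _
      rw [hg m hm b]
    rw [Finset.sum_congr rfl h1, ← Matrix.mul_apply, mul_one]
    exact hg m hm a

theorem colT_mul {j : Fin n} {g h : SpecialLinearGroup (Fin n) F} (hg : g ∈ colT j) (hh : h ∈ colT j) : g * h ∈ colT j := by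
  intro m hm a
  show ((g : Matrix (Fin n) (Fin n) F) * (h : Matrix (Fin n) (Fin n) F)) a m = _
  rw [Matrix.mul_apply]
  have h1 : ∀ b ∈ Finset.univ, (g : Matrix (Fin n) (Fin n) F) a b * (h : Matrix (Fin n) (Fin n) F) b m =
      (g : Matrix (Fin n) (Fin n) F) a b * (1 : Matrix (Fin n) (Fin n) F) b m := by
    intro b _
    rw [hh m hm b]
  rw [Finset.sum_congr rfl h1, ← Matrix.mul_apply, mul_one]
  exact hg m hm a

/-- The subgroup of matrices which agree with the identity outside the column `j`. -/
def tT (hF : Fintype.card F = 2) (j : Fin n) : Subgroup (SpecialLinearGroup (Fin n) F) where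
  carrier := colT j
  one_mem' := fun m _ a => rfl
  mul_mem' := colT_mul
  inv_mem' := by
    intro g hg
    have h1 : g⁻¹ = g := inv_eq_of_mul_eq_one_left (colT_sq hF hg)
    rw [h1]
    exact hg

/-- Conjugation by matrices with trivial row `j` preserves the subgroup. -/
theorem colT_conj {j : Fin n} {g c : SpecialLinearGroup (Fin n) F} (hg : g ∈ colT j)
    (hc : ∀ b, b ≠ j → ((c⁻¹ : SpecialLinearGroup (Fin n) F) : Matrix (Fin n) (Fin n) F) j b = 0) : c * g * c⁻¹ ∈ colT j := by
  intro m hm a
  have h0 : ∀ b, ((g * c⁻¹ : SpecialLinearGroup (Fin n) F) : Matrix (Fin n) (Fin n) F) b m =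
      ((c⁻¹ : SpecialLinearGroup (Fin n) F) : Matrix (Fin n) (Fin n) F) b m := by
    intro b
    show ((g : Matrix (Fin n) (Fin n) F) * ((c⁻¹ : SpecialLinearGroup (Fin n) F) : Matrix (Fin n) (Fin n) F)) b m = _
    rw [Matrix.mul_apply]
    have h1 : ∀ d ∈ Finset.univ, (g : Matrix (Fin n) (Fin n) F) b d * ((c⁻¹ : SpecialLinearGroup (Fin n) F) : Matrix (Fin n) (Fin n) F) d m =
        (1 : Matrix (Fin n) (Fin n) F) b d * ((c⁻¹ : SpecialLinearGroup (Fin n) F) : Matrix (Fin n) (Fin n) F) d m := by
      intro d _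
      by_cases hd : d = j
      · rw [hd, hc m hm, mul_zero, mul_zero]
      · rw [hg d hd b]
    rw [Finset.sum_congr rfl h1, ← Matrix.mul_apply, one_mul]
  have h2 : c * g * c⁻¹ = c * (g * c⁻¹) := mul_assoc _ _ _
  rw [h2]
  show ((c : Matrix (Fin n) (Fin n) F) * ((g * c⁻¹ : SpecialLinearGroup (Fin n) F) : Matrix (Fin n) (Fin n) F)) a m = _
  rw [Matrix.mul_apply]
  simp only [h0]
  rw [← Matrix.mul_apply]
  have h3 : (c : Matrix (Fin n) (Fin n) F) * ((c⁻¹ : SpecialLinearGroup (Fin n) F) : Matrix (Fin n) (Fin n) F) = 1 := by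
    have := congrArg (fun u : SpecialLinearGroup (Fin n) F => (u : Matrix (Fin n) (Fin n) F)) (mul_inv_cancel c)
    exact this
  rw [h3]

/-- An element commuting with the transvection has trivial row `j`. -/
theorem row_of_comm {i j : Fin n} (hij : i ≠ j) {M : Matrix (Fin n) (Fin n) F}
    (hM : Matrix.transvection i j 1 * M = M * Matrix.transvection i j 1) (b : Fin n) (hb : b ≠ j) : M j b = 0 := by
  have h1 : Matrix.single i j (1 : F) * M = M * Matrix.single i j (1 : F) := by
    unfold Matrix.transvection at hM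
    rw [add_mul, mul_add, one_mul, mul_one] at hM
    exact add_left_cancel hM
  have h2 := congrFun (congrFun h1 i) b
  rw [Matrix.single_mul_apply_same, one_mul, Matrix.mul_single_apply_of_ne _ _ _ _ _ hb] at h2
  exact h2

theorem comm_of_colT (hF : Fintype.card F = 2) {i j : Fin n} (hij : i ≠ j) {g : SpecialLinearGroup (Fin n) F} (hg : g ∈ colT j) :
    Matrix.transvection i j 1 * (g : Matrix (Fin n) (Fin n) F) = (g : Matrix (Fin n) (Fin n) F) * Matrix.transvection i j 1 := by
  unfold Matrix.transvection
  rw [add_mul, mul_add, one_mul, mul_one]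
  congr 1
  ext a b
  by_cases ha : a = i
  · subst ha
    rw [Matrix.single_mul_apply_same, one_mul]
    by_cases hb : b = j
    · subst hb
      rw [Matrix.mul_single_apply_same, mul_one, colT_diag hF hg, hg a hij a, Matrix.one_apply_eq]
    · rw [Matrix.mul_single_apply_of_ne _ _ _ _ _ hb, hg b hb j, Matrix.one_apply_ne (Ne.symm hb)]
  · rw [Matrix.single_mul_apply_of_ne _ _ _ _ _ ha]
    by_cases hb : b = j
    · subst hb
      rw [Matrix.mul_single_apply_same, mul_one, hg i hij a, Matrix.one_apply_ne ha]
    · rw [Matrix.mul_single_apply_of_ne _ _ _ _ _ hb]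

/-- Transvections with column `j`. -/
def tauK {k j : Fin n} (hk : k ≠ j) : SpecialLinearGroup (Fin n) F :=
  ⟨Matrix.transvection k j 1, Matrix.det_transvection_of_ne k j hk 1⟩

theorem tauK_mem {k j : Fin n} (hk : k ≠ j) : (tauK hk : SpecialLinearGroup (Fin n) F) ∈ colT j := by
  intro m hm a
  show (Matrix.transvection k j (1 : F)) a m = _
  unfold Matrix.transvection
  rw [Matrix.add_apply, Matrix.single_apply_of_col_ne k a (Ne.symm hm) 1, add_zero]

/-- An element commuting with all the transvections with column `j` is in the subgroup. -/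
theorem mem_colT_of_comm (hF : Fintype.card F = 2) {j : Fin n} {x : SpecialLinearGroup (Fin n) F}
    (hx : ∀ k (hk : k ≠ j), x * tauK hk = tauK hk * x) : x ∈ colT j := by
  have key : ∀ k (hk : k ≠ j), (x : Matrix (Fin n) (Fin n) F) * Matrix.single k j 1 = Matrix.single k j 1 * (x : Matrix (Fin n) (Fin n) F) := by
    intro k hk
    have h1 := congrArg (fun u : SpecialLinearGroup (Fin n) F => (u : Matrix (Fin n) (Fin n) F)) (hx k hk)
    have h2 : (x : Matrix (Fin n) (Fin n) F) * Matrix.transvection k j 1 = Matrix.transvection k j 1 * (x : Matrix (Fin n) (Fin n) F) := h1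
    unfold Matrix.transvection at h2
    rw [add_mul, mul_add, one_mul, mul_one] at h2
    exact add_left_cancel h2
  have hrow : ∀ b, b ≠ j → (x : Matrix (Fin n) (Fin n) F) j b = 0 := by
    intro b hb
    have h2 := congrFun (congrFun (key b hb) b) b
    rw [Matrix.single_mul_apply_same, one_mul, Matrix.mul_single_apply_of_ne _ _ _ _ _ hb] at h2
    exact h2.symm
  have hjj : (x : Matrix (Fin n) (Fin n) F) j j = 1 := by
    apply F2_one hF
    intro h0
    have h1 : (x : Matrix (Fin n) (Fin n) F).det = 0 := by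
      apply Matrix.det_eq_zero_of_row_eq_zero j
      intro b
      by_cases hb : b = j
      · rw [hb, h0]
      · exact hrow b hb
    rw [x.2] at h1
    exact one_ne_zero h1
  intro m hm a
  by_cases ha : a = m
  · subst ha
    have h2 := congrFun (congrFun (key a hm) a) j
    rw [Matrix.single_mul_apply_same, one_mul, Matrix.mul_single_apply_same, mul_one, hjj] at h2
    rw [h2, Matrix.one_apply_eq]
  · have h2 := congrFun (congrFun (key m hm) a) j
    rw [Matrix.single_mul_apply_of_ne _ _ _ _ _ ha, Matrix.mul_single_apply_same, mul_one] at h2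
    rw [h2, Matrix.one_apply_ne ha]

end

end Cfsg.Agent.H05
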